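import Mathlib

/-!
# A module which becomes cyclic after a field extension is cyclic modulo every maximal ideal
-/

set_option autoImplicit false

universe u

open TensorProduct

namespace Groth.Agent.PicExt1

theorem finrank_le_of_span {k k' A M V : Type u} [Field k] [Field k'] [Algebra k k'] [CommRing A]
    [Algebra k A] [Module.Finite k A] [AddCommGroup M] [Module k M] [Module A M] [IsScalarTower k A M]
    (T : k' ⊗[k] M)
    (hT : ∀ z : k' ⊗[k] M, z ∈ Submodule.span k' (Set.range fun a : A => (Algebra.lsmul k k M a).baseChange k' T))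
    (P : Ideal A) [AddCommGroup V] [Module k V] [Module (A ⧸ P) V] [IsScalarTower k (A ⧸ P) V]
    (π : M →ₗ[k] V) (hπ : Function.Surjective π) (hcompat : ∀ (a : A) (m : M), π (a • m) = Ideal.Quotient.mk P a • π m) :
    Module.Finite k V ∧ Module.finrank k V ≤ Module.finrank k (A ⧸ P) := by
  let T' := π.baseChange k' T
  have hL : ∀ (a : A) (z : k' ⊗[k] M), π.baseChange k' ((Algebra.lsmul k k M a).baseChange k' z) =
      (Algebra.lsmul k k V (Ideal.Quotient.mk P a)).baseChange k' (π.baseChange k' z) := by
    intro a z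
    induction z with
    | zero => simp
    | tmul b m =>
      simp only [LinearMap.baseChange_tmul, Algebra.lsmul_coe, hcompat]
    | add x y hx hy => simp [hx, hy]
  let g : (A ⧸ P) →ₗ[k] k' ⊗[k] V :=
    { toFun := fun c => (Algebra.lsmul k k V c).baseChange k' T'
      map_add' := fun c d => by rw [map_add, LinearMap.baseChange_add, LinearMap.add_apply]
      map_smul' := fun r c => by
        rw [map_smul, LinearMap.baseChange_smul, LinearMap.smul_apply, RingHom.id_apply] }
  have hsurj : Function.Surjective (g.liftBaseChange k') := by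
    intro z
    obtain ⟨z, rfl⟩ := LinearMap.lTensor_surjective k'
      (g := π) hπ z
    show π.baseChange k' z ∈ LinearMap.range (g.liftBaseChange k')
    induction hT z using Submodule.span_induction with
    | mem x hx =>
      obtain ⟨a, rfl⟩ := hx
      exact ⟨1 ⊗ₜ Ideal.Quotient.mk P a, by rw [LinearMap.liftBaseChange_tmul, one_smul]; exact (hL a T).symm⟩
    | zero => rw [map_zero]; exact zero_mem _
    | add x y _ _ hx hy => rw [map_add]; exact add_mem hx hy
    | smul c x _ hx => rw [map_smul]; exact Submodule.smul_mem _ c hx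
  haveI : Module.Finite k (A ⧸ P) := Module.Finite.of_surjective (Ideal.Quotient.mkₐ k P).toLinearMap Ideal.Quotient.mk_surjective
  haveI : Module.Finite k' (k' ⊗[k] V) := Module.Finite.of_surjective _ hsurj
  haveI : Module.Finite k V := Module.Finite.of_finite_tensorProduct_of_faithfullyFlat k'
  have hle : Module.finrank k V ≤ Module.finrank k (A ⧸ P) := by
    rw [← Module.finrank_baseChange (R := k') (S := k) (M' := V),
      ← Module.finrank_baseChange (R := k') (S := k) (M' := A ⧸ P)]
    exact LinearMap.finrank_le_finrank_of_surjective hsurj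
  exact ⟨inferInstance, hle⟩

theorem exists_span_singleton_mod {k k' A M : Type u} [Field k] [Field k'] [Algebra k k'] [CommRing A]
    [Algebra k A] [Module.Finite k A] [AddCommGroup M] [Module k M] [Module A M] [IsScalarTower k A M]
    (T : k' ⊗[k] M)
    (hT : ∀ z : k' ⊗[k] M, z ∈ Submodule.span k' (Set.range fun a : A => (Algebra.lsmul k k M a).baseChange k' T))
    (P : Ideal A) [P.IsMaximal] :
    ∃ v : M, ∀ m : M, ∃ a : A, m - a • v ∈ P • (⊤ : Submodule A M) := by
  classical
  letI : Field (A ⧸ P) := Ideal.Quotient.field P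
  let V := M ⧸ P • (⊤ : Submodule A M)
  let π : M →ₗ[A] V := Submodule.mkQ _
  haveI : IsScalarTower k (A ⧸ P) V := IsScalarTower.of_algebraMap_smul fun r v => by
    obtain ⟨m, rfl⟩ := Submodule.mkQ_surjective _ v
    show (Submodule.mkQ _ ((algebraMap k A r) • m) : V) = r • Submodule.mkQ _ m
    rw [algebraMap_smul]
    rfl
  have hπ : Function.Surjective π := Submodule.mkQ_surjective _
  have hcompat : ∀ (a : A) (m : M), π (a • m) = Ideal.Quotient.mk P a • π m := fun a m => map_smul π a m
  obtain ⟨hfin, hle⟩ := finrank_le_of_span (V := V) T hT P (π.restrictScalars k) hπ hcompat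
  haveI : Module.Finite (A ⧸ P) V := Module.Finite.of_restrictScalars_finite k (A ⧸ P) V
  have h1 : Module.finrank (A ⧸ P) V ≤ 1 := by
    rw [← Module.finrank_mul_finrank k (A ⧸ P) V] at hle
    have h0 : 0 < Module.finrank k (A ⧸ P) := Module.finrank_pos
    by_contra hgt
    have : 2 * Module.finrank k (A ⧸ P) ≤ Module.finrank k (A ⧸ P) * Module.finrank (A ⧸ P) V := by
      rw [mul_comm]; exact Nat.mul_le_mul_left _ (by omega)
    omega
  obtain ⟨v, hv⟩ := finrank_le_one_iff.1 h1
  obtain ⟨v, rfl⟩ := Submodule.mkQ_surjective _ v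
  refine ⟨v, fun m => ?_⟩
  obtain ⟨c, hc⟩ := hv (Submodule.mkQ _ m)
  obtain ⟨a, rfl⟩ := Ideal.Quotient.mk_surjective c
  refine ⟨a, ?_⟩
  rw [← Submodule.Quotient.eq]
  exact hc.symm

/-- One element which spans modulo every maximal ideal. -/
theorem exists_span_singleton_mod_all {A M : Type u} [CommRing A] [IsArtinianRing A] [AddCommGroup M] [Module A M]
    (h : ∀ P : Ideal A, P.IsMaximal → ∃ v : M, ∀ m : M, ∃ a : A, m - a • v ∈ P • (⊤ : Submodule A M)) :
    ∃ s : M, ∀ P : Ideal A, P.IsMaximal → ∀ m : M, ∃ a : A, m - a • s ∈ P • (⊤ : Submodule A M) := by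
  classical
  haveI : Fintype (MaximalSpectrum A) := Fintype.ofFinite _
  choose v hv using fun P : MaximalSpectrum A => h P.asIdeal P.isMaximal
  have hcop : Pairwise (Function.onFun IsCoprime fun P : MaximalSpectrum A => P.asIdeal) := fun P Q hne => by
    haveI := P.isMaximal; haveI := Q.isMaximal
    exact Ideal.isCoprime_iff_sup_eq.2 (Ideal.IsMaximal.coprime_of_ne P.isMaximal Q.isMaximal
      fun e => hne (MaximalSpectrum.ext e))
  choose e he using fun P : MaximalSpectrum A =>
    Ideal.exists_forall_sub_mem_ideal hcop (fun Q => if Q = P then (1 : A) else 0)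
  refine ⟨∑ Q, e Q • v Q, fun P hP m => ?_⟩
  let P' : MaximalSpectrum A := ⟨P, hP⟩
  have hs : (∑ Q, e Q • v Q) - v P' ∈ P • (⊤ : Submodule A M) := by
    have : v P' = ∑ Q, (if P' = Q then (1 : A) else 0) • v Q := by simp [ite_smul]
    rw [this, ← Finset.sum_sub_distrib]
    refine Submodule.sum_mem _ fun Q _ => ?_
    rw [← sub_smul]
    exact Submodule.smul_mem_smul (he Q P') Submodule.mem_top
  obtain ⟨a, ha⟩ := hv P' m
  refine ⟨a, ?_⟩
  have e2 : m - a • (∑ Q, e Q • v Q) = (m - a • v P') - a • ((∑ Q, e Q • v Q) - v P') := by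
    rw [smul_sub]; abel
  rw [e2]
  exact sub_mem ha (Submodule.smul_mem _ _ hs)

end Groth.Agent.PicExt1
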